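import Cfsg.Agent.H388.VO.Co1
import Cfsg.Agent.H620.PNorm

/-!
# S4555, S4559: the row `Co1`, `p = 3`

The exterior square of the 24-dimensional character of `Co0` is an irreducible character of `Co1` (helper419); it
vanishes at the seventh power of helper388's explicit element of order 21.
-/

set_option autoImplicit false

namespace Cfsg.Agent.H185.VO

open Cfsg Cfsg.Agent.H388.CoMat Cfsg.Agent.H388.VO

universe u

theorem tr21_7 : trL R21 7 = 0 ∧ trL R21 14 = 0 := by decide +kernel

theorem vz_co1_3 : H713.VZ Spor.Co1 (CoOneType.CoOneE.pr (g21 ^ 7)) := by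
  apply vz_psi
  have hr : CoOneType.CoEval.Rep g21 R21 := CoOneType.CoEval.rep_mk ok21
  apply psi_zero 0
  · rw [tr8_pow hr 7]
    exact tr21_7.1
  · rw [← pow_add, tr8_pow hr (7 + 7)]
    exact tr21_7.2

theorem order_co1_3 : orderOf (CoOneType.CoOneE.pr (g21 ^ 7)) = 3 := by
  rw [map_pow, orderOf_pow, o21]
  norm_num

/-- The row `Co1`, `p = 3`. -/
theorem co1_3 {K : Type u} [Group K] (h : Spor.IsoCo1 K) : H620.PNorm.VOrdP 3 K := by
  obtain ⟨e⟩ := h
  exact H620.PNorm.VOrdP.mulEquiv ⟨_, order_co1_3, vz_co1_3⟩ e.symm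

end Cfsg.Agent.H185.VO
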