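import Cfsg.Agent.H185.VO.CentIM
import Cfsg.Agent.H870.IMRu

/-!
# S4555, S4559: the row `Ru`, `p = 5`
-/

set_option autoImplicit false
set_option maxRecDepth 100000

namespace Cfsg.Agent.H185.VO

open Cfsg Subgroup
open Cfsg.Agent.SporadicB Cfsg.Agent.RuD.Letters Cfsg.Agent.SporRec.TCUpperCert
open Cfsg.Agent.KFacts.Ru Cfsg.Agent.KFacts.Ru.CentEng Cfsg.Agent.CpAutRuFive
open Cfsg.Agent.H870.IMRu
open Cfsg.Agent.CpAutRuFive.Cert

universe u

theorem ru_model_5 : H620.PNorm.VOrdP 5 RuOrder.H := by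
  have := finite_H
  have : Fact (Nat.Prime 5) := ⟨by norm_num⟩
  have hr := rel_of_chk chkY
  have hY : wprod ml [5, 5] = (1 : RuOrder.H) := hr _ (by simp)
  have hB : wprod ml [0, 4, 0, 4, 0, 4] = (1 : RuOrder.H) := hr _ (by simp)
  have hYB : wprod ml [5, 0, 4, 5, 0, 4, 5, 0, 4, 5, 0, 4, 5, 0, 4] = (1 : RuOrder.H) := hr _ (by simp)
  have e1 : wprod ml [5, 5] = (wprod ml [5] : RuOrder.H) ^ 2 := by
    rw [show ([5, 5] : List ℕ) = [5] ++ [5] from rfl, wprod_append, pow_two]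
  have e2 : wprod ml [0, 4, 0, 4, 0, 4] = (wprod ml [0, 4] : RuOrder.H) ^ 3 := by
    rw [show ([0, 4, 0, 4, 0, 4] : List ℕ) = [0, 4] ++ ([0, 4] ++ [0, 4]) from rfl, wprod_append, wprod_append]
    simp only [pow_succ, pow_zero, one_mul, mul_assoc]
  have e3 : wprod ml [5, 0, 4, 5, 0, 4, 5, 0, 4, 5, 0, 4, 5, 0, 4] =
      ((wprod ml [5] : RuOrder.H) * wprod ml [0, 4]) ^ 5 := by
    rw [show ([5, 0, 4, 5, 0, 4, 5, 0, 4, 5, 0, 4, 5, 0, 4] : List ℕ) =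
      ([5] ++ [0, 4]) ++ (([5] ++ [0, 4]) ++ (([5] ++ [0, 4]) ++ (([5] ++ [0, 4]) ++ ([5] ++ [0, 4])))) from rfl]
    simp only [wprod_append]
    simp only [pow_succ, pow_zero, one_mul, mul_assoc]
  have hca := eq_of_chkEq chkCa
  have hcb := eq_of_chkEq chkCb
  rw [wprod_append, wprod_append] at hca hcb
  obtain ⟨h1, h2⟩ := im_cent_five (x := (wprod ml wB : RuOrder.H)) orderB cardB hca hcb (e1.symm.trans hY)
    (e2.symm.trans hB) (e3.symm.trans hYB) H870.IMRu.ne_one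
  refine vOrdP_of_im orderB h1 h2 ?_
  rw [SporadicB.RuOrder.card_H]
  norm_num

/-- The row `Ru`, `p = 5`. -/
theorem ru_5 {K : Type u} [Group K] (h : Spor.IsoRu K) : H620.PNorm.VOrdP 5 K := by
  obtain ⟨e⟩ := h
  exact H620.PNorm.VOrdP.mulEquiv ru_model_5 (e.trans Cfsg.Agent.RuLat.Main.equiv).symm

end Cfsg.Agent.H185.VO
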