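import Cfsg.Agent.H185.VO.CentIM
import Cfsg.Agent.CpAutSuz.ThreeC
import Cfsg.Agent.H442.ZerosSmall

/-!
# S4555, S4559: the row `Suz`, `p = 3`

`E` of order 9 with `C(x) = C(E) = E × A₆` for `1 ≠ x ∈ E`: a block with the defect group `E`; elements of order 3 in the
centre of a Sylow 3-subgroup are not conjugate into `E`.
-/

set_option autoImplicit false
set_option maxRecDepth 100000
set_option exponentiation.threshold 4000

namespace Cfsg.Agent.H185.VO

open Cfsg Subgroup Cfsg.Spor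
open Cfsg.Agent.SuzThree.Basic Cfsg.Agent.CpAutSuz.ThreeC Cfsg.Agent.PreUniq.Spor.SuzP
open Cfsg.Agent.H620.PNorm Cfsg.Agent.H678.PV

universe u

/-- `A₆` has a character of degree 9. -/
theorem im_nine_a6 : H33.IM 9 (alternatingGroup (Fin 6)) := by
  have h := H442.ZerosSmall.deg_a6.nine
  have h1 : Nonempty {χ : IrrCharacter (alternatingGroup (Fin 6)) //
      (χ : alternatingGroup (Fin 6) → ℂ) 1 = ((9 : ℕ) : ℂ)} := by
    by_contra hne
    rw [not_nonempty_iff] at hne
    have h2 : H727.DegCount.cnt (alternatingGroup (Fin 6)) 9 = 0 := Nat.card_of_isEmpty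
    omega
  obtain ⟨⟨χ, hχ⟩⟩ := h1
  exact H33.IM.of_apply_one χ.2 hχ dvd_rfl

theorem im_nine_X : H33.IM 9 X := by
  have := finSuz
  have := simple_X
  obtain ⟨e⟩ := Cfsg.Agent.S0497.result card_quot
  exact (im_nine_a6.of_equiv e).of_quotient (E.subgroupOf X)

/-- A 3-element normalising `E` centralises a nontrivial element of `E`. -/
theorem exists_fixed {G : Type u} [Group G] [Finite G] {p : ℕ} [hp : Fact p.Prime] {Q : Subgroup G}
    (hQ : p ∣ Nat.card Q) {g : G} (hg : g ∈ normalizer (Q : Set G)) (hk : ∃ k : ℕ, orderOf g = p ^ k) :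
    ∃ x ∈ Q, x ≠ 1 ∧ g * x = x * g := by
  obtain ⟨k, hk⟩ := hk
  have hP : IsPGroup p (zpowers g) := IsPGroup.iff_card.2 ⟨k, by rw [Nat.card_zpowers, hk]⟩
  let f : zpowers g →* MulAut Q := (Q.normalizerMonoidHom).comp (inclusion (zpowers_le.2 hg))
  let act : MulAction (zpowers g) Q := MulAction.compHom Q f
  have hf : (1 : Q) ∈ MulAction.fixedPoints (zpowers g) Q := fun a => map_one (f a)
  obtain ⟨b, hb, hb1⟩ := hP.exists_fixed_point_of_prime_dvd_card_of_fixed_point Q hQ hf
  refine ⟨b, b.2, fun h => hb1 (Subtype.ext h).symm, ?_⟩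
  have h1 : f ⟨g, mem_zpowers g⟩ b = b := hb ⟨g, mem_zpowers g⟩
  have h2 : g * b * g⁻¹ = b := congrArg Subtype.val h1
  calc g * b = g * b * g⁻¹ * g := by group
    _ = b * g := by rw [h2]

theorem fac_3240 : (3240 : ℕ).factorization 3 = 4 := by
  have h0 : (3240 : ℕ) ≠ 0 := by norm_num
  have h1 : 4 ≤ (3240 : ℕ).factorization 3 :=
    (Nat.prime_three.pow_dvd_iff_le_factorization h0).1 (by norm_num)
  have h2 : ¬ 4 + 1 ≤ (3240 : ℕ).factorization 3 := fun h => by
    have := (Nat.prime_three.pow_dvd_iff_le_factorization h0).2 h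
    norm_num at this
  omega

theorem suz_model_3 : VOrdP 3 Suz := by
  have := finSuz
  have : Fact (Nat.Prime 3) := ⟨Nat.prime_three⟩
  obtain ⟨M, hM⟩ := Cfsg.Agent.Blocks.Knorr.exists_isPModular 3
  obtain ⟨θ, hθ⟩ := im_nine_X
  have h0 : charDegree (θ : X → ℂ) ≠ 0 := (Cfsg.Agent.Blocks.Basic.charDegree_pos θ.2).ne'
  have hdeg : 2 ≤ (charDegree (θ : X → ℂ)).factorization 3 :=
    (Nat.prime_three.pow_dvd_iff_le_factorization h0).1 hθ
  have hE0 : E ⊓ centralizer (E : Set Suz) = E := inf_eq_left.2 E_le_X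
  have hE : (Nat.card ↥(E ⊓ centralizer (E : Set Suz))).factorization 3 = 2 := by
    rw [hE0, card_E, show (9 : ℕ) = 3 ^ 2 by norm_num, Nat.factorization_pow, Nat.prime_three.factorization]
    simp
  have hX : (Nat.card ↥(centralizer (E : Set Suz))).factorization 3 = 2 + 2 := by
    show (Nat.card X).factorization 3 = _
    rw [card_X, fac_3240]
  obtain ⟨B, hB, hD⟩ := exists_block hM isPGroup_E (Q := E) θ (by
      rw [hE, hX]
      exact Nat.add_le_add_right hdeg 2) fun g hg hk => by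
    obtain ⟨x, hx, hx1, hgx⟩ := exists_fixed (p := 3) (Q := E) (by rw [card_E]; norm_num) hg hk
    exact mem_sup_right (cent_x hx hx1 hgx)
  obtain ⟨y, hy, hyc⟩ := exists_full (G := Suz) (p := 3) (by
    rw [SporadicRecognition.SuzOrder.card_Suz]; norm_num)
  refine ⟨y, hy, vz_of_card_ne hM hB hD ⟨1, by rw [hy, pow_one]⟩ fun z hz hzo heq => ?_⟩
  have hz1 : z ≠ 1 := by
    rintro rfl
    rw [orderOf_one, hy] at hzo
    omega
  rw [card_centralizer hz hz1] at heq
  rw [← heq, fac_3240, SporadicRecognition.SuzOrder.card_Suz] at hyc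
  have h7 : 7 ≤ (448345497600 : ℕ).factorization 3 :=
    (Nat.prime_three.pow_dvd_iff_le_factorization (by norm_num)).1 (by norm_num)
  omega

/-- The row `Suz`, `p = 3`. -/
theorem suz_3 {K : Type u} [Group K] (h : Spor.IsoSuz K) : VOrdP 3 K := by
  obtain ⟨e⟩ := h
  exact VOrdP.mulEquiv suz_model_3 e.symm

end Cfsg.Agent.H185.VO
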